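import Mathlib
import Cfsg.Agent.Lib.Helper17.R3.Defs

/-!
# Project R3 (S1788): package [PSL]

`PSL_n(F)`, `F` finite of characteristic 2, has 2-rank at least 3 (under the hypotheses of the
package): the matrices `1 + Σ_{i < n-1} a_i E_{i,n-1}`.
-/

set_option autoImplicit false

namespace Cfsg.Agent.Lib.Helper66.R3

open Cfsg Cfsg.Agent.Lib.Helper17.R3

section

variable (k : ℕ) (F : Type) [Field F]

/-- the matrix `Σ_{i < k} a_i E_{i,k}` -/
def psN (a : Fin k → F) : Matrix (Fin (k + 1)) (Fin (k + 1)) F :=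
  Matrix.of (fun i j => if j = Fin.last k then (if h : i.val < k then a ⟨i.val, h⟩ else 0) else 0)

theorem psN_apply (a : Fin k → F) (i j : Fin (k + 1)) :
    psN k F a i j = if j = Fin.last k then (if h : i.val < k then a ⟨i.val, h⟩ else 0) else 0 :=
  rfl

theorem psN_last_row (a : Fin k → F) (j : Fin (k + 1)) : psN k F a (Fin.last k) j = 0 := by
  rw [psN_apply]
  split_ifs with h1 h2
  · exact absurd h2 (by simp)
  · rfl
  · rfl

theorem psN_mul (a b : Fin k → F) : psN k F a * psN k F b = 0 := by
  ext i j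
  rw [Matrix.mul_apply, Matrix.zero_apply]
  apply Finset.sum_eq_zero
  intro l _
  by_cases hl : l = Fin.last k
  · rw [hl, psN_last_row, mul_zero]
  · rw [psN_apply k F a i l, if_neg hl, zero_mul]

theorem psN_add (a b : Fin k → F) : psN k F (a + b) = psN k F a + psN k F b := by
  ext i j
  rw [Matrix.add_apply, psN_apply, psN_apply, psN_apply]
  split_ifs <;> simp

theorem psN_zero : psN k F (0 : Fin k → F) = 0 := by
  ext i j
  rw [psN_apply]
  split_ifs <;> simp

theorem psN_castSucc_last (a : Fin k → F) (i : Fin k) :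
    psN k F a i.castSucc (Fin.last k) = a i := by
  rw [psN_apply, if_pos rfl, dif_pos (by simp)]
  rfl

theorem det_one_add_psN (a : Fin k → F) : (1 + psN k F a).det = 1 := by
  have htri : (1 + psN k F a).BlockTriangular id := by
    intro i j hij
    have hij' : j < i := hij
    rw [Matrix.add_apply, Matrix.one_apply_ne (ne_of_gt hij'), zero_add, psN_apply, if_neg]
    intro hj
    rw [hj] at hij'
    exact absurd (Fin.le_last i) (not_le.mpr hij')
  rw [Matrix.det_of_isUpperTriangular htri]
  apply Finset.prod_eq_one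
  intro i _
  rw [Matrix.add_apply, Matrix.one_apply_eq, psN_apply]
  by_cases hi : i = Fin.last k
  · rw [if_pos hi, dif_neg, add_zero]
    rw [hi]
    simp
  · rw [if_neg hi, add_zero]

/-- the parametrisation -/
def psPhi (a : Fin k → F) : Matrix.SpecialLinearGroup (Fin (k + 1)) F :=
  ⟨1 + psN k F a, det_one_add_psN k F a⟩

theorem psPhi_mul (a b : Fin k → F) : psPhi k F a * psPhi k F b = psPhi k F (a + b) := by
  apply Subtype.ext
  show (1 + psN k F a) * (1 + psN k F b) = 1 + psN k F (a + b)
  rw [psN_add, add_mul, mul_add, mul_add, one_mul, mul_one, one_mul, psN_mul]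
  abel

theorem psPhi_zero : psPhi k F (0 : Fin k → F) = 1 := by
  apply Subtype.ext
  show 1 + psN k F (0 : Fin k → F) = 1
  rw [psN_zero, add_zero]

end

/-- [PSL] -/
theorem pkgPSL : PkgPSL := by
  intro F _ _ _ n hn h2 h3
  obtain ⟨k, rfl⟩ : ∃ k, n = k + 1 := ⟨n - 1, by omega⟩
  have hchar : ∀ p : Fin k → F, p + p = 0 := by
    intro p
    funext i
    exact CharTwo.add_self_eq_zero (p i)
  have hsq : ∀ p : Fin k → F, psPhi k F p * psPhi k F p = 1 := by
    intro p
    rw [psPhi_mul, hchar, psPhi_zero]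
  refine r3_quot (Subgroup.center (Matrix.SpecialLinearGroup (Fin (k + 1)) F)) (psPhi k F)
    ?_ hsq ?_ ?_
  · intro p p'
    rw [psPhi_mul, psPhi_mul, add_comm p p']
  · intro p p' hmem
    have hinv : (psPhi k F p)⁻¹ = psPhi k F p := inv_eq_of_mul_eq_one_right (hsq p)
    rw [hinv, psPhi_mul, Matrix.SpecialLinearGroup.mem_center_iff] at hmem
    obtain ⟨r, -, hr⟩ := hmem
    funext i
    have h1 := congrFun (congrFun hr i.castSucc) (Fin.last k)
    have h4 : ((psPhi k F (p + p') : Matrix.SpecialLinearGroup (Fin (k + 1)) F) :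
        Matrix (Fin (k + 1)) (Fin (k + 1)) F) i.castSucc (Fin.last k) = (p + p') i := by
      show (1 + psN k F (p + p')) i.castSucc (Fin.last k) = (p + p') i
      rw [Matrix.add_apply, psN_castSucc_last, Matrix.one_apply_ne, zero_add]
      exact (Fin.castSucc_lt_last i).ne
    rw [h4, Matrix.scalar_apply, Matrix.diagonal_apply_ne _ (Fin.castSucc_lt_last i).ne] at h1
    have h5 : p i + p' i = 0 := h1.symm
    exact CharTwo.add_eq_zero.mp h5
  · rw [Nat.card_eq_fintype_card, Fintype.card_fun, Fintype.card_fin]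
    have hq : 2 ≤ Fintype.card F := Fintype.one_lt_card
    rcases Nat.lt_or_ge k 3 with hk | hk
    · have hk' : k = 1 ∨ k = 2 := by omega
      rcases hk' with rfl | rfl
      · rw [pow_one]
        exact h2 rfl
      · have h4 := h3 rfl
        calc 8 ≤ 4 ^ 2 := by norm_num
          _ ≤ Fintype.card F ^ 2 := Nat.pow_le_pow_left h4 2
    · calc 8 = 2 ^ 3 := by norm_num
        _ ≤ 2 ^ k := Nat.pow_le_pow_right (by norm_num) hk
        _ ≤ Fintype.card F ^ k := Nat.pow_le_pow_left hq k

end Cfsg.Agent.Lib.Helper66.R3
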