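import Mathlib
import Cfsg.Agent.Lib.Helper17.R3.Defs

/-!
# Project R3 (S1788): package [PSP]

`PSp_{2m}(F)`, `F` finite of characteristic 2, `m ≥ 2`, has 2-rank at least 3: the matrices
`fromBlocks 1 B 0 1` with `B` symmetric supported on the top left `2 × 2` block.
-/

set_option autoImplicit false

namespace Cfsg.Agent.Lib.Helper66.R3

open Cfsg Cfsg.Agent.Lib.Helper17.R3 Matrix

section

variable (k : ℕ) (F : Type) [Field F]

/-- the symmetric matrix with entries `p.1`, `p.2.1` on the diagonal places `0`, `1` and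
`p.2.2` at the places `(0,1)`, `(1,0)` -/
def symB (p : F × F × F) : Matrix (Fin (k + 2)) (Fin (k + 2)) F :=
  Matrix.of (fun i j => if i = 0 ∧ j = 0 then p.1 else if i = 1 ∧ j = 1 then p.2.1
    else if (i = 0 ∧ j = 1) ∨ (i = 1 ∧ j = 0) then p.2.2 else 0)

theorem symB_apply (p : F × F × F) (i j : Fin (k + 2)) :
    symB k F p i j = if i = 0 ∧ j = 0 then p.1 else if i = 1 ∧ j = 1 then p.2.1
      else if (i = 0 ∧ j = 1) ∨ (i = 1 ∧ j = 0) then p.2.2 else 0 := rfl

theorem fin_zero_ne_one : (0 : Fin (k + 2)) ≠ 1 := by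
  intro h
  have := congrArg Fin.val h
  rw [Fin.val_one] at this
  exact absurd this (by norm_num)

theorem symB_transpose (p : F × F × F) : (symB k F p)ᵀ = symB k F p := by
  ext i j
  rw [Matrix.transpose_apply, symB_apply, symB_apply]
  by_cases h1 : i = 0 <;> by_cases h2 : j = 0 <;> by_cases h3 : i = 1 <;> by_cases h4 : j = 1 <;>
    simp [h1, h2, h3, h4]

theorem symB_add (p p' : F × F × F) : symB k F (p + p') = symB k F p + symB k F p' := by
  ext i j
  rw [Matrix.add_apply, symB_apply, symB_apply, symB_apply]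
  split_ifs <;> simp

theorem symB_zero : symB k F (0 : F × F × F) = 0 := by
  ext i j
  rw [symB_apply]
  split_ifs <;> simp

theorem symB_eq_zero (p : F × F × F) (h : symB k F p = 0) : p = 0 := by
  have h01 := fin_zero_ne_one k
  have h00 := congrFun (congrFun h 0) 0
  have h11 := congrFun (congrFun h 1) 1
  have h01' := congrFun (congrFun h 0) 1
  rw [symB_apply] at h00 h11 h01'
  simp only [and_self, if_true, Matrix.zero_apply] at h00
  rw [if_neg (fun h => h01 h.1.symm), if_pos ⟨rfl, rfl⟩] at h11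
  rw [if_neg (fun h => h01 h.2.symm), if_neg (fun h => h01 h.1), if_pos (Or.inl ⟨rfl, rfl⟩)] at h01'
  obtain ⟨a, b, c⟩ := p
  simp only [Matrix.zero_apply] at h11 h01'
  simp only at h00 h11 h01'
  rw [h00, h11, h01']
  rfl

theorem upper_mem (B : Matrix (Fin (k + 2)) (Fin (k + 2)) F) (hB : Bᵀ = B) :
    Matrix.fromBlocks 1 B 0 1 ∈ Matrix.symplecticGroup (Fin (k + 2)) F := by
  rw [SymplecticGroup.mem_iff, Matrix.J, Matrix.fromBlocks_multiply, Matrix.fromBlocks_transpose,
    Matrix.fromBlocks_multiply, hB]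
  simp

/-- the parametrisation -/
def spPhi (p : F × F × F) : Matrix.symplecticGroup (Fin (k + 2)) F :=
  ⟨Matrix.fromBlocks 1 (symB k F p) 0 1, upper_mem k F _ (symB_transpose k F p)⟩

theorem spPhi_mul (p p' : F × F × F) : spPhi k F p * spPhi k F p' = spPhi k F (p + p') := by
  apply Subtype.ext
  show Matrix.fromBlocks 1 (symB k F p) 0 1 * Matrix.fromBlocks 1 (symB k F p') 0 1 =
    Matrix.fromBlocks 1 (symB k F (p + p')) 0 1
  rw [Matrix.fromBlocks_multiply, symB_add]
  simp [add_comm]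

theorem spPhi_zero : spPhi k F (0 : F × F × F) = 1 := by
  apply Subtype.ext
  show Matrix.fromBlocks 1 (symB k F (0 : F × F × F)) 0 1 = 1
  rw [symB_zero, Matrix.fromBlocks_one]

end

/-- [PSP] -/
theorem pkgPSp : PkgPSp := by
  intro F _ _ _ m hm _
  obtain ⟨k, rfl⟩ : ∃ k, m = k + 2 := ⟨m - 2, by omega⟩
  have hchar : ∀ p : F × F × F, p + p = 0 := by
    rintro ⟨a, b, c⟩
    show (a + a, b + b, c + c) = 0
    rw [CharTwo.add_self_eq_zero, CharTwo.add_self_eq_zero, CharTwo.add_self_eq_zero]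
    rfl
  have hsq : ∀ p : F × F × F, spPhi k F p * spPhi k F p = 1 := by
    intro p
    rw [spPhi_mul, hchar, spPhi_zero]
  refine r3_quot (Subgroup.center (Matrix.symplecticGroup (Fin (k + 2)) F)) (spPhi k F)
    ?_ hsq ?_ ?_
  · intro p p'
    rw [spPhi_mul, spPhi_mul, add_comm p p']
  · intro p p' hmem
    have hinv : (spPhi k F p)⁻¹ = spPhi k F p := inv_eq_of_mul_eq_one_right (hsq p)
    rw [hinv, spPhi_mul, Subgroup.mem_center_iff] at hmem
    have h1 := hmem ⟨Matrix.J (Fin (k + 2)) F, SymplecticGroup.J_mem _ _⟩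
    have h2 := congrArg Subtype.val h1
    have h3 : Matrix.J (Fin (k + 2)) F * Matrix.fromBlocks 1 (symB k F (p + p')) 0 1 =
        Matrix.fromBlocks 1 (symB k F (p + p')) 0 1 * Matrix.J (Fin (k + 2)) F := h2
    rw [Matrix.J, Matrix.fromBlocks_multiply, Matrix.fromBlocks_multiply] at h3
    have h4 := (Matrix.fromBlocks_inj.mp h3).1
    simp at h4
    have h5 := symB_eq_zero k F (p + p') h4.symm
    obtain ⟨a, b, c⟩ := p
    obtain ⟨a', b', c'⟩ := p'
    have h6 : (a + a', b + b', c + c') = ((0 : F), (0 : F), (0 : F)) := h5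
    simp only [Prod.mk.injEq] at h6
    obtain ⟨e1, e2, e3⟩ := h6
    rw [CharTwo.add_eq_zero.mp e1, CharTwo.add_eq_zero.mp e2, CharTwo.add_eq_zero.mp e3]
  · rw [Nat.card_eq_fintype_card, Fintype.card_prod, Fintype.card_prod]
    have hq : 2 ≤ Fintype.card F := Fintype.one_lt_card
    calc 8 = 2 * (2 * 2) := by norm_num
      _ ≤ Fintype.card F * (Fintype.card F * Fintype.card F) :=
        Nat.mul_le_mul hq (Nat.mul_le_mul hq hq)

end Cfsg.Agent.Lib.Helper66.R3
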